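import Groth.Agent.RegTilde.LinRes
import Groth.Agent.SerrePn.Basic
import Groth.Agent.DetReg.Chart
import Groth.Agent.TMul.Pullback
import Groth.Prelude.Def_KLin

/-!
Tools for resolutions by sums of line bundles on projective space.
-/

set_option autoImplicit false
set_option linter.unusedSectionVars false
set_option linter.style.haveILetI false
set_option backward.isDefEq.respectTransparency false
set_option maxHeartbeats 1000000

universe u

open CategoryTheory CategoryTheory.Limits AlgebraicGeometry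
open Groth.Agent.QC (res app_res res_self)
open Groth.Agent.DetReg (pr total)

noncomputable section

namespace Groth.Agent.GaetaRes

attribute [local instance] CategoryTheory.Abelian.hasFiniteBiproducts

variable {k : Type u} [Field k] {n : ℕ}

local notation "𝐏" => CohB1.ProjSpace n k

/-- The line bundle `O(a)`. -/
abbrev Tw (k : Type u) [Field k] (n : ℕ) (a : ℤ) : (CohB1.ProjSpace n k).Modules := Twist.twistProjSpace n k a

/-- Vanishing of `H^q(F(c))`. -/
abbrev Van (F : (CohB1.ProjSpace n k).Modules) (q : ℕ) (c : ℤ) : Prop :=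
  Subsingleton (Coh.HH (CohB1.ProjSpace n k) (CohB1.tensorMod F (Tw k n c)) q)

lemma van_iso {F G : (CohB1.ProjSpace n k).Modules} (e : F ≅ G) {q : ℕ} {c : ℤ} (h : Van F q c) : Van G q c :=
  CohQC.hh_subsingleton_of_iso (PicGrp.tensorModIso e (Iso.refl _)) _ h

lemma van_tw (a c : ℤ) (q : ℕ) (h₀ : ¬ (q = 0 ∧ 0 ≤ a + c)) (hn : ¬ (q = n ∧ a + c ≤ -((n : ℤ) + 1))) :
    Van (Tw k n a) q c := by
  obtain ⟨i⟩ := RegCx.twist_twist (k := k) (n := n) a c (a + c) rfl
  exact CohQC.hh_subsingleton_of_iso i.symm _ (ProjCech.twist_vanish n _ q h₀ hn)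

lemma van_sigma {b : ℕ} (a c : ℤ) (q : ℕ) (h₀ : ¬ (q = 0 ∧ 0 ≤ a + c)) (hn : ¬ (q = n ∧ a + c ≤ -((n : ℤ) + 1))) :
    Van (∐ fun _ : Fin b => Tw k n a) q c :=
  LinRes.hh_coprod _ _ q (van_tw a c q h₀ hn)

lemma van_zero_iff (F : (CohB1.ProjSpace n k).Modules) (q : ℕ) :
    Van F q 0 ↔ Subsingleton (Coh.HH (CohB1.ProjSpace n k) F q) := by
  obtain ⟨j₀⟩ := GrT.nonempty_twist_zero_iso (𝒜 := CohB1.polyGrading n k)
  let e : CohB1.tensorMod F (Tw k n 0) ≅ F := PicGrp.tensorModIso (Iso.refl F) j₀ ≪≫ SecTwist.unitorR F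
  exact ⟨fun h => CohQC.hh_subsingleton_of_iso e _ h, fun h => CohQC.hh_subsingleton_of_iso e.symm _ h⟩

lemma van_above (F : (CohB1.ProjSpace n k).Modules) (hF : Coh.IsQCoh F) (q : ℕ) (hq : n < q) (c : ℤ) : Van F q c :=
  RegCx.hh_above F hF c q hq

lemma van_untwist (F : (CohB1.ProjSpace n k).Modules) (a b c : ℤ) (h : a + b = c) {q : ℕ} (hv : Van F q c) :
    Van (CohB1.tensorMod F (Tw k n a)) q b :=
  RegCx.hh_twist_twist F a b c h q hv

/-! ### Long exact sequences -/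

section Seq

variable {F G E : (CohB1.ProjSpace n k).Modules} (f : F ⟶ G) (g : G ⟶ E) (w : f ≫ g = 0)
  (hS : (ShortComplex.mk f g w).ShortExact)
include hS

lemma van_right {q : ℕ} {c : ℤ} (h₂ : Van G q c) (h₁ : Van F (q + 1) c) : Van E q c :=
  CohFinite.subsingleton_of_shortExact (CohFinite.shortExact_tmap (CohFinite.isInvertible_twist n k c) hS) q h₂ h₁

lemma van_mid {q : ℕ} {c : ℤ} (h₁ : Van F q c) (h₃ : Van E q c) : Van G q c :=
  CohFinite.subsingleton_of_shortExact_mid (CohFinite.shortExact_tmap (CohFinite.isInvertible_twist n k c) hS) q h₁ h₃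

lemma van_left {q : ℕ} {c : ℤ} (h₃ : Van E q c) (h₂ : Van G (q + 1) c) : Van F (q + 1) c :=
  LinRes.hh_left (CohFinite.shortExact_tmap (CohFinite.isInvertible_twist n k c) hS) q
    (fun x => ⟨0, (@Subsingleton.elim _ h₃ _ x)⟩) h₂

lemma van_left_zero {c : ℤ} (h₂ : Van G 0 c) : Van F 0 c := by
  obtain ⟨e, -⟩ := CohFinite.exists_zero_equiv k (CohB1.tensorMod F (Tw k n c))
  obtain ⟨e', -⟩ := CohFinite.exists_zero_equiv k (CohB1.tensorMod G (Tw k n c))
  haveI : Subsingleton Γ(CohB1.tensorMod G (Tw k n c), ⊤) :=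
    haveI : Subsingleton _ := h₂
    e'.surjective.subsingleton
  have hS' := CohFinite.shortExact_tmap (CohFinite.isInvertible_twist n k c) hS
  haveI : Mono (CohFinite.tmap f (Tw k n c)) := hS'.mono_f
  exact ⟨fun x y => e.injective (QC.app_injective_of_mono (CohFinite.tmap f (Tw k n c)) ⊤ (Subsingleton.elim _ _))⟩

end Seq

lemma van_biprod {F G : (CohB1.ProjSpace n k).Modules} {q : ℕ} {c : ℤ} (hF : Van F q c) (hG : Van G q c) :
    Van (F ⊞ G) q c :=
  van_mid biprod.inl biprod.snd biprod.inl_snd (ShortComplex.Splitting.ofHasBinaryBiproduct F G).shortExact hF hG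

/-! ### Morphisms out of line bundles -/

lemma exists_eta (a : ℤ) : Nonempty (CohB1.tensorMod (Tw k n (-a)) (Tw k n a) ≅ Coh.structureModule (CohB1.ProjSpace n k)) := by
  obtain ⟨i⟩ := RegCx.twist_twist (k := k) (n := n) (-a) a 0 (by ring)
  obtain ⟨j₀⟩ := GrT.nonempty_twist_zero_iso (𝒜 := CohB1.polyGrading n k)
  exact ⟨i ≪≫ j₀⟩

theorem nonempty_hom_equiv (a : ℤ) (F : (CohB1.ProjSpace n k).Modules) :
    Nonempty ((Tw k n a ⟶ F) ≃ₗ[k] Coh.HH (CohB1.ProjSpace n k) (CohB1.tensorMod F (Tw k n (-a))) 0) := by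
  obtain ⟨η⟩ := exists_eta (k := k) (n := n) a
  exact SerrePn.nonempty_homEquiv k (CohFinite.isInvertible_twist n k (-a)) η F

lemma finite_hom (a : ℤ) {F : (CohB1.ProjSpace n k).Modules} (hF : Coh.IsCoh F) :
    Module.Finite k (Tw k n a ⟶ F) := by
  obtain ⟨e⟩ := nonempty_hom_equiv (k := k) a F
  haveI := CohFinite.finite_projSpace n k (CohB1.tensorMod F (Tw k n (-a)))
    (CohFinite.isCoh_tensor hF (CohFinite.isInvertible_twist n k (-a))) 0
  exact Module.Finite.equiv e.symm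

lemma hom_eq_zero_of_van (a : ℤ) {F : (CohB1.ProjSpace n k).Modules} (h : Van F 0 (-a)) (g : Tw k n a ⟶ F) :
    g = 0 := by
  obtain ⟨e⟩ := nonempty_hom_equiv (k := k) a F
  exact e.injective (@Subsingleton.elim _ h _ _)

lemma van_of_hom_eq_zero (a : ℤ) {F : (CohB1.ProjSpace n k).Modules} (h : ∀ g : Tw k n a ⟶ F, g = 0) :
    Van F 0 (-a) := by
  obtain ⟨e⟩ := nonempty_hom_equiv (k := k) a F
  exact ⟨fun x y => e.symm.injective ((h _).trans (h _).symm)⟩

lemma hom_tw_eq_zero (a c : ℤ) (h : c < a) (g : Tw k n a ⟶ Tw k n c) (hn : 1 ≤ n) : g = 0 :=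
  hom_eq_zero_of_van a (van_tw c (-a) 0 (by omega) (by omega)) g

/-- Endomorphisms of a line bundle on `P^n` are scalars. -/
theorem exists_scalar (hn : 1 ≤ n) (a : ℤ) (g : Tw k n a ⟶ Tw k n a) : ∃ c : k, g = c • 𝟙 _ := by
  obtain ⟨e⟩ := nonempty_hom_equiv (k := k) a (Tw k n a)
  obtain ⟨i⟩ := RegCx.twist_twist (k := k) (n := n) a (-a) ((0 : ℕ) : ℤ) (by simp)
  obtain ⟨z⟩ := ProjCech.zero_equiv (R := k) n 0
  let T := (e.trans (CohFinite.hhEquiv k i 0)).trans z
  have hone : ∀ x : ↥(MvPolynomial.homogeneousSubmodule (Fin (n + 1)) k 0), ∃ c : k, (x : MvPolynomial (Fin (n + 1)) k) = MvPolynomial.C c :=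
    fun x => ⟨MvPolynomial.coeff 0 x.1, MvPolynomial.totalDegree_eq_zero_iff_eq_C.1
      (le_antisymm ((MvPolynomial.mem_homogeneousSubmodule _ _).1 x.2).totalDegree_le (Nat.zero_le _))⟩
  obtain ⟨c₁, h₁⟩ := hone (T g)
  obtain ⟨c₀, h₀⟩ := hone (T (𝟙 _))
  by_cases hc : c₀ = 0
  · have hid : (𝟙 (Tw k n a)) = 0 := by
      apply T.injective
      rw [map_zero]
      exact Subtype.ext (by rw [h₀, hc, map_zero]; rfl)
    exact ⟨0, by rw [zero_smul, ← Category.comp_id g, hid, comp_zero]⟩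
  · refine ⟨c₁ / c₀, T.injective ?_⟩
    rw [map_smul]
    refine Subtype.ext ?_
    rw [Submodule.coe_smul, h₁, h₀, MvPolynomial.smul_eq_C_mul, ← map_mul, div_mul_cancel₀ _ hc]

/-- A minimal map from copies of a line bundle. -/
theorem exists_min (hn : 1 ≤ n) (a : ℤ) {F : (CohB1.ProjSpace n k).Modules} (hF : Coh.IsCoh F) :
    ∃ (b : ℕ) (s : Fin b → (Tw k n a ⟶ F)),
      (∀ f : Tw k n a ⟶ F, ∃ w, w ≫ Sigma.desc s = f) ∧
      ∀ g : Tw k n a ⟶ ∐ fun _ : Fin b => Tw k n a, g ≫ Sigma.desc s = 0 → g = 0 := by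
  haveI := finite_hom (k := k) a hF
  let B := Module.finBasis k (Tw k n a ⟶ F)
  refine ⟨_, fun j => B j, fun f => ⟨∑ j, B.repr f j • Sigma.ι (fun _ : Fin (Module.finrank k (Tw k n a ⟶ F)) => Tw k n a) j, ?_⟩, fun g hg => ?_⟩
  · rw [Preadditive.sum_comp]
    conv_rhs => rw [← B.sum_repr f]
    exact Finset.sum_congr rfl fun j _ => by rw [Linear.smul_comp, Sigma.ι_desc]
  · choose c hc using fun j => exists_scalar hn a (g ≫ pr (Tw k n a) j)
    have hgeq : g = ∑ j, c j • Sigma.ι (fun _ : Fin (Module.finrank k (Tw k n a ⟶ F)) => Tw k n a) j := by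
      conv_lhs => rw [← Category.comp_id g, ← total (Tw k n a), Preadditive.comp_sum]
      exact Finset.sum_congr rfl fun j _ => by rw [← Category.assoc, hc j, Linear.smul_comp, Category.id_comp]
    have h0 : ∑ j, c j • B j = 0 := by
      rw [hgeq, Preadditive.sum_comp] at hg
      rw [← hg]
      exact Finset.sum_congr rfl fun j _ => by rw [Linear.smul_comp, Sigma.ι_desc]
    have := Fintype.linearIndependent_iff.1 B.linearIndependent c h0
    rw [hgeq]
    exact Finset.sum_eq_zero fun j _ => by rw [this j, zero_smul]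

/-- Factorisation of morphisms out of a line bundle gives surjectivity on sections. -/
theorem app_surjective_of_factor (a : ℤ) {E F : (CohB1.ProjSpace n k).Modules} (φ : E ⟶ F)
    (h : ∀ f : Tw k n a ⟶ F, ∃ w, w ≫ φ = f) (z : Γ(CohB1.tensorMod F (Tw k n (-a)), ⊤)) :
    ∃ w, (CohFinite.tmap φ (Tw k n (-a))).app ⊤ w = z := by
  obtain ⟨η⟩ := exists_eta (k := k) (n := n) a
  obtain ⟨w, hw⟩ := h (LinRes.secHom η z)
  refine ⟨(CohFinite.tmap w (Tw k n (-a))).app ⊤ (LinRes.gen₀ η), ?_⟩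
  rw [← ConcreteCategory.comp_apply, ← Scheme.Modules.Hom.comp_app, ← CohFinite.tmap_comp, hw]
  exact LinRes.tmap_secHom_gen η (CohFinite.isInvertible_twist n k (-a)) z

lemma van_one_left (a : ℤ) {K E F : (CohB1.ProjSpace n k).Modules} (f : K ⟶ E) (φ : E ⟶ F) (w : f ≫ φ = 0)
    (hS : (ShortComplex.mk f φ w).ShortExact) (h : ∀ g : Tw k n a ⟶ F, ∃ w, w ≫ φ = g) (hE : Van E 1 (-a)) :
    Van K 1 (-a) :=
  LinRes.hh_left (CohFinite.shortExact_tmap (CohFinite.isInvertible_twist n k (-a)) hS) 0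
    (fun x => LinRes.h0_surj _ (app_surjective_of_factor a φ h) x) hE

/-- Tensoring a finite sum. -/
def sigmaTensor {X : Scheme.{u}} (b : ℕ) (L M : X.Modules) :
    CohB1.tensorMod (∐ fun _ : Fin b => L) M ≅ ∐ fun _ : Fin b => CohB1.tensorMod L M where
  hom := ∑ t, CohFinite.tmap (pr L t) M ≫ Sigma.ι (fun _ : Fin b => CohB1.tensorMod L M) t
  inv := Sigma.desc fun t => CohFinite.tmap (Sigma.ι (fun _ : Fin b => L) t) M
  hom_inv_id := by
    rw [Preadditive.sum_comp]
    simp only [Category.assoc, Sigma.ι_desc, ← CohFinite.tmap_comp]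
    exact (CohFinite.tmap_sum _ _ _).symm.trans
      ((congrArg (fun ψ => CohFinite.tmap ψ M) (total L)).trans (CohFinite.tmap_id _ _))
  inv_hom_id := by
    refine Sigma.hom_ext _ _ fun t => ?_
    rw [Sigma.ι_desc_assoc, Category.comp_id, Preadditive.comp_sum, Finset.sum_eq_single t]
    · rw [← Category.assoc, ← CohFinite.tmap_comp, pr, colimit.ι_desc]
      exact (congrArg (fun ψ : L ⟶ L => CohFinite.tmap ψ M ≫ _) (if_pos rfl)).trans
        (by rw [CohFinite.tmap_id, Category.id_comp])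
    · intro t' _ ht
      rw [← Category.assoc, ← CohFinite.tmap_comp, pr, colimit.ι_desc]
      exact (congrArg (fun ψ : L ⟶ L => CohFinite.tmap ψ M ≫ _) (if_neg (Ne.symm ht))).trans
        (by rw [CohFinite.tmap_zero, zero_comp])
    · exact fun h => absurd (Finset.mem_univ _) h

end Groth.Agent.GaetaRes
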