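import Groth.Agent.GaetaRes.Basic
import Groth.Agent.SubRes.ExtendCoh
import Mathlib.CategoryTheory.Linear.Basic
import Mathlib.LinearAlgebra.TensorProduct.Basis

/-!
Gaeta resolutions on the projective plane.
-/

set_option autoImplicit false
set_option linter.unusedSectionVars false
set_option linter.style.haveILetI false
set_option backward.isDefEq.respectTransparency false
set_option maxHeartbeats 1000000

universe u

open CategoryTheory CategoryTheory.Limits AlgebraicGeometry TensorProduct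
open Groth.Agent.DetReg (pr total)

noncomputable section

namespace Groth.Agent.GaetaRes

attribute [local instance] CategoryTheory.Abelian.hasFiniteBiproducts

variable {k : Type u} [Field k]

local notation "P2" => CohB1.ProjSpace 2 k
local notation "OO" => Coh.structureModule (CohB1.ProjSpace 2 k)

/-- The shape of a resolution. -/
def HasRes (F : (CohB1.ProjSpace 2 k).Modules) : Prop :=
  ∃ (α₁ α₂ α₃ : ℕ) (S : ShortComplex (CohB1.ProjSpace 2 k).Modules), S.ShortExact ∧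
    Nonempty (S.X₁ ≅ ∐ fun _ : Fin α₁ => Twist.twistProjSpace 2 k (-2)) ∧
    Nonempty (S.X₂ ≅ (∐ fun _ : Fin α₂ => Twist.twistProjSpace 2 k (-1)) ⊞
      (∐ fun _ : Fin α₃ => Coh.structureModule (CohB1.ProjSpace 2 k))) ∧
    Nonempty (S.X₃ ≅ F)

/-- Composition `Hom(O(-1), O) ⊗ Hom(O, F) → Hom(O(-1), F)`. -/
def mul (F : (CohB1.ProjSpace 2 k).Modules) :
    (Tw k 2 (-1) ⟶ OO) ⊗[k] (OO ⟶ F) →ₗ[k] (Tw k 2 (-1) ⟶ F) :=
  TensorProduct.lift (CategoryTheory.Linear.comp (Tw k 2 (-1)) OO F)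

lemma mul_tmul (F : (CohB1.ProjSpace 2 k).Modules) (ψ : Tw k 2 (-1) ⟶ OO) (s : OO ⟶ F) :
    mul F (ψ ⊗ₜ[k] s) = ψ ≫ s := rfl

lemma sum_comp_pr {b : ℕ} {M L : (CohB1.ProjSpace 2 k).Modules} (g : M ⟶ ∐ fun _ : Fin b => L) :
    g = ∑ t, (g ≫ pr L t) ≫ Sigma.ι (fun _ : Fin b => L) t := by
  conv_lhs => rw [← Category.comp_id g, ← total L, Preadditive.comp_sum]
  simp only [Category.assoc]

lemma biprod_eq {A B M : (CohB1.ProjSpace 2 k).Modules} (g : M ⟶ A ⊞ B) :
    g = (g ≫ biprod.fst) ≫ biprod.inl + (g ≫ biprod.snd) ≫ biprod.inr := by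
  conv_lhs => rw [← Category.comp_id g, ← biprod.total, Preadditive.comp_add]
  simp only [Category.assoc]

/-- The vanishing conditions give a resolution. -/
theorem hasRes_of_vanish (F : (CohB1.ProjSpace 2 k).Modules) (hF : Coh.IsCoh F)
    (h0 : Van F 0 (-1)) (h2 : Van F 2 (-1)) (h10 : Van F 1 0) (h20 : Van F 2 0) (h11 : Van F 1 1) (_ : Van F 2 1)
    (hinj : Function.Injective (mul F)) : HasRes F := by
  classical
  haveI : IsNoetherian (CohB1.ProjSpace 2 k) := CohFinite.isNoetherian_projSpace 2 k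
  obtain ⟨j₀⟩ := GrT.nonempty_twist_zero_iso (𝒜 := CohB1.polyGrading 2 k)
  let jd : Tw k 2 0 ≅ OO := j₀
  haveI := finite_hom (k := k) 0 hF
  haveI := finite_hom (k := k) (-1) hF
  haveI : Module.Finite k (OO ⟶ F) := Module.Finite.equiv (CategoryTheory.Linear.homCongr k jd (Iso.refl F))
  let B := Module.finBasis k (OO ⟶ F)
  obtain ⟨C, hC⟩ := Submodule.exists_isCompl (LinearMap.range (mul F))
  let B' := Module.finBasis k C
  let s : Fin (Module.finrank k (OO ⟶ F)) → (Tw k 2 0 ⟶ F) := fun l => jd.hom ≫ B l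
  let t : Fin (Module.finrank k C) → (Tw k 2 (-1) ⟶ F) := fun i => (B' i : Tw k 2 (-1) ⟶ F)
  let E : (CohB1.ProjSpace 2 k).Modules :=
    (∐ fun _ : Fin (Module.finrank k C) => Tw k 2 (-1)) ⊞ (∐ fun _ : Fin (Module.finrank k (OO ⟶ F)) => Tw k 2 0)
  let φ : E ⟶ F := biprod.desc (Sigma.desc t) (Sigma.desc s)
  -- every morphism out of `O` factors
  have hfac0 : ∀ f : Tw k 2 0 ⟶ F, ∃ w : Tw k 2 0 ⟶ E, w ≫ φ = f := fun f => by
    refine ⟨(∑ l, B.repr (jd.inv ≫ f) l • Sigma.ι (fun _ : Fin (Module.finrank k (OO ⟶ F)) => Tw k 2 0) l) ≫ biprod.inr, ?_⟩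
    rw [Category.assoc, biprod.inr_desc, Preadditive.sum_comp]
    calc ∑ l, (B.repr (jd.inv ≫ f) l • Sigma.ι (fun _ : Fin (Module.finrank k (OO ⟶ F)) => Tw k 2 0) l) ≫ Sigma.desc s
        = jd.hom ≫ ∑ l, B.repr (jd.inv ≫ f) l • B l := by
          rw [Preadditive.comp_sum]
          exact Finset.sum_congr rfl fun l _ => by rw [Linear.smul_comp, Sigma.ι_desc, Linear.comp_smul]
      _ = f := by rw [B.sum_repr, Iso.hom_inv_id_assoc]
  have hfacO : ∀ f : OO ⟶ F, ∃ w : OO ⟶ E, w ≫ φ = f := fun f => by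
    obtain ⟨w, hw⟩ := hfac0 (jd.hom ≫ f)
    exact ⟨jd.inv ≫ w, by rw [Category.assoc, hw, Iso.inv_hom_id_assoc]⟩
  have hfac1 : ∀ f : Tw k 2 (-1) ⟶ F, ∃ w : Tw k 2 (-1) ⟶ E, w ≫ φ = f := fun f => by
    obtain ⟨u, hu, c, hc, rfl⟩ := Submodule.mem_sup.1 (hC.sup_eq_top ▸ Submodule.mem_top : f ∈ LinearMap.range (mul F) ⊔ C)
    obtain ⟨v, rfl⟩ := hu
    have hv : ∃ w : Tw k 2 (-1) ⟶ E, w ≫ φ = mul F v := by
      induction v using TensorProduct.induction_on with
      | zero => exact ⟨0, by rw [zero_comp, map_zero]⟩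
      | tmul ψ f' =>
        obtain ⟨w, hw⟩ := hfacO f'
        exact ⟨ψ ≫ w, by rw [Category.assoc, hw, mul_tmul]⟩
      | add x y hx hy =>
        obtain ⟨w, hw⟩ := hx
        obtain ⟨w', hw'⟩ := hy
        exact ⟨w + w', by rw [Preadditive.add_comp, hw, hw', map_add]⟩
    obtain ⟨w, hw⟩ := hv
    refine ⟨w + (∑ i, B'.repr ⟨c, hc⟩ i • Sigma.ι (fun _ : Fin (Module.finrank k C) => Tw k 2 (-1)) i) ≫ biprod.inl, ?_⟩
    rw [Preadditive.add_comp, hw, Category.assoc, biprod.inl_desc, Preadditive.sum_comp]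
    congr 1
    have h := congrArg Subtype.val (B'.sum_repr ⟨c, hc⟩)
    rw [Submodule.coe_sum] at h
    refine Eq.trans ?_ h
    exact Finset.sum_congr rfl fun i _ => by rw [Linear.smul_comp, Sigma.ι_desc]; rfl
  -- no relations
  have hinj0 : ∀ g : Tw k 2 0 ⟶ E, g ≫ φ = 0 → g = 0 := fun g hg => by
    have h1 : g ≫ biprod.fst = 0 := by
      rw [sum_comp_pr (g ≫ biprod.fst)]
      exact Finset.sum_eq_zero fun i _ => by
        rw [hom_tw_eq_zero 0 (-1) (by norm_num) ((g ≫ biprod.fst) ≫ pr _ i) (by norm_num), zero_comp]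
    choose c hc using fun l => exists_scalar (k := k) (by norm_num : 1 ≤ 2) 0 ((g ≫ biprod.snd) ≫ pr (Tw k 2 0) l)
    have hsum : jd.hom ≫ ∑ l, c l • B l = 0 := by
      rw [biprod_eq g, h1, zero_comp, zero_add, Category.assoc, biprod.inr_desc, sum_comp_pr (g ≫ biprod.snd),
        Preadditive.sum_comp] at hg
      rw [← hg, Preadditive.comp_sum]
      exact Finset.sum_congr rfl fun l _ => by
        rw [hc l, Category.assoc, Sigma.ι_desc, Linear.smul_comp, Category.id_comp, Linear.comp_smul]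
    have hsum' : ∑ l, c l • B l = 0 := by
      rw [← Iso.inv_hom_id_assoc jd (∑ l, c l • B l), hsum, comp_zero]
    have hcz := Fintype.linearIndependent_iff.1 B.linearIndependent c hsum'
    rw [biprod_eq g, h1, zero_comp, zero_add, sum_comp_pr (g ≫ biprod.snd),
      Finset.sum_eq_zero fun l _ => by rw [hc l, hcz l, zero_smul, zero_comp], zero_comp]
  have hinj1 : ∀ g : Tw k 2 (-1) ⟶ E, g ≫ φ = 0 → g = 0 := fun g hg => by
    choose c hc using fun i => exists_scalar (k := k) (by norm_num : 1 ≤ 2) (-1) ((g ≫ biprod.fst) ≫ pr (Tw k 2 (-1)) i)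
    let ψ : Fin (Module.finrank k (OO ⟶ F)) → (Tw k 2 (-1) ⟶ OO) := fun l => ((g ≫ biprod.snd) ≫ pr (Tw k 2 0) l) ≫ jd.hom
    let v : (Tw k 2 (-1) ⟶ OO) ⊗[k] (OO ⟶ F) := ∑ l, ψ l ⊗ₜ[k] B l
    have hA : (g ≫ biprod.fst) ≫ Sigma.desc t = ((∑ i, c i • B' i : C) : Tw k 2 (-1) ⟶ F) := by
      rw [sum_comp_pr (g ≫ biprod.fst), Preadditive.sum_comp, Submodule.coe_sum]
      exact Finset.sum_congr rfl fun i _ => by
        rw [hc i, Category.assoc, Sigma.ι_desc, Linear.smul_comp, Category.id_comp]; rfl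
    have hB : (g ≫ biprod.snd) ≫ Sigma.desc s = mul F v := by
      rw [sum_comp_pr (g ≫ biprod.snd), Preadditive.sum_comp, map_sum]
      exact Finset.sum_congr rfl fun l _ => by
        rw [mul_tmul, Category.assoc, Sigma.ι_desc]
        simp only [ψ, s, Category.assoc]
    rw [biprod_eq g, Preadditive.add_comp, Category.assoc, biprod.inl_desc, Category.assoc (g ≫ biprod.snd),
      biprod.inr_desc, hA, hB] at hg
    have hmem : mul F v ∈ LinearMap.range (mul F) ⊓ C :=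
      ⟨⟨v, rfl⟩, by rw [eq_neg_of_add_eq_zero_right hg]; exact C.neg_mem (Submodule.coe_mem _)⟩
    rw [hC.inf_eq_bot, Submodule.mem_bot] at hmem
    have hv : v = 0 := hinj (hmem.trans (map_zero (mul F)).symm)
    have hψ : ∀ l, ψ l = 0 := fun l => by
      have h := congrArg (fun x => TensorProduct.equivFinsuppOfBasisRight B x l) hv
      simp only [v, map_sum, map_zero, Finsupp.coe_zero, Pi.zero_apply, Finsupp.finset_sum_apply,
        TensorProduct.equivFinsuppOfBasisRight_apply_tmul_apply, Module.Basis.repr_self, Finsupp.single_apply] at h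
      simpa using h
    rw [hmem, add_zero] at hg
    have hc0 : ∑ i, c i • B' i = 0 := Subtype.ext hg
    have hcz := Fintype.linearIndependent_iff.1 B'.linearIndependent c hc0
    rw [biprod_eq g, sum_comp_pr (g ≫ biprod.fst), sum_comp_pr (g ≫ biprod.snd),
      Finset.sum_eq_zero fun i _ => by rw [hc i, hcz i, zero_smul, zero_comp],
      Finset.sum_eq_zero fun l _ => by
        rw [← Category.comp_id ((g ≫ biprod.snd) ≫ pr (Tw k 2 0) l), ← jd.hom_inv_id, ← Category.assoc]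
        exact (congrArg (fun q => (q ≫ jd.inv) ≫ _) (hψ l)).trans (by rw [zero_comp, zero_comp]),
      zero_comp, zero_comp, add_zero]
  have hfacPos : ∀ f : Tw k 2 1 ⟶ F, ∃ w : Tw k 2 1 ⟶ E, w ≫ φ = f := fun f =>
    ⟨0, by rw [zero_comp, hom_eq_zero_of_van 1 h0 f]⟩
  haveI hepi : Epi φ := by
    obtain ⟨b, φ₀, hφ₀, -⟩ := LinRes.exists_of_reg F hF 1 (fun q hq hq2 => by
      obtain rfl | rfl : q = 1 ∨ q = 2 := by omega
      · show Van F 1 _; simpa using h10
      · show Van F 2 _; simpa using h2)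
    choose w hw using fun j => hfac1 (Sigma.ι (fun _ : Fin b => Tw k 2 (-1)) j ≫ φ₀)
    have : Sigma.desc w ≫ φ = φ₀ := Sigma.hom_ext _ _ fun j => by rw [Sigma.ι_desc_assoc, hw]
    haveI : Epi (Sigma.desc w ≫ φ) := by rw [this]; exact hφ₀
    exact epi_of_epi (Sigma.desc w) φ
  have hE : ∀ (q : ℕ) (c : ℤ), ¬ (q = 0 ∧ 0 ≤ c) → ¬ (q = 2 ∧ c ≤ -2) → Van E q c := fun q c a b =>
    van_biprod (van_sigma (n := 2) (-1) c q (by omega) (by omega)) (van_sigma (n := 2) 0 c q (by omega) (by omega))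
  have hEc : Coh.IsCoh E := (SubRes.isCoh_biprod (DetReg.isCoh_sigma _ (CohFinite.isCoh_twist 2 k _)) (DetReg.isCoh_sigma _ (CohFinite.isCoh_twist 2 k _)))
  have hS : (ShortComplex.mk (kernel.ι φ) φ (kernel.condition φ)).ShortExact :=
    { exact := ShortComplex.exact_of_f_is_kernel _ (kernelIsKernel φ) }
  have hKc : Coh.IsCoh (kernel φ) := QC.isCoh_kernel hEc hF.1 φ
  have hK0 : ∀ (a : ℤ), (∀ g : Tw k 2 a ⟶ E, g ≫ φ = 0 → g = 0) → Van (kernel φ) 0 (-a) := fun a h =>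
    van_of_hom_eq_zero a fun g => by
      rw [← cancel_mono (kernel.ι φ), zero_comp]
      exact h _ (by rw [Category.assoc, kernel.condition, comp_zero])
  have k00 : Van (kernel φ) 0 0 := by simpa using hK0 0 hinj0
  have k01 : Van (kernel φ) 0 1 := by simpa using hK0 (-1) hinj1
  have k1m : Van (kernel φ) 1 (-1) := van_one_left 1 _ φ _ hS hfacPos (hE 1 _ (by omega) (by omega))
  have k10 : Van (kernel φ) 1 0 := by
    simpa using van_one_left 0 _ φ _ hS hfac0 (hE 1 _ (by omega) (by omega))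
  have k11 : Van (kernel φ) 1 1 := by
    simpa using van_one_left (-1) _ φ _ hS hfac1 (hE 1 _ (by omega) (by omega))
  have k20 : Van (kernel φ) 2 0 := van_left _ φ _ hS (q := 1) h10 (hE 2 0 (by omega) (by omega))
  have k21 : Van (kernel φ) 2 1 := van_left _ φ _ hS (q := 1) h11 (hE 2 1 (by omega) (by omega))
  -- the kernel twisted by two is free
  let G := CohB1.tensorMod (kernel φ) (Tw k 2 2)
  have hGc : Coh.IsCoh G := CohFinite.isCoh_tensor hKc (CohFinite.isInvertible_twist 2 k 2)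
  have g0m1 : Van G 0 (-1) := van_untwist _ 2 (-1) 1 (by norm_num) k01
  have g0m2 : Van G 0 (-2) := van_untwist _ 2 (-2) 0 (by norm_num) k00
  have g1m1 : Van G 1 (-1) := van_untwist _ 2 (-1) 1 (by norm_num) k11
  have g1m2 : Van G 1 (-2) := van_untwist _ 2 (-2) 0 (by norm_num) k10
  have g2m2 : Van G 2 (-2) := van_untwist _ 2 (-2) 0 (by norm_num) k20
  obtain ⟨N, s', hs'fac, hs'inj⟩ := exists_min (k := k) (n := 2) (by norm_num) 0 hGc
  haveI hepi' : Epi (Sigma.desc s') := by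
    obtain ⟨b, φ₀, hφ₀, -⟩ := LinRes.exists_of_reg G hGc 0 (fun q hq hq2 => by
      obtain rfl | rfl : q = 1 ∨ q = 2 := by omega
      · show Van G 1 _; simpa using g1m1
      · show Van G 2 _; simpa using g2m2)
    have e0 : Tw k 2 0 = Tw k 2 (-0) := congrArg (Tw k 2) neg_zero.symm
    choose w hw using fun j => hs'fac (eqToHom e0 ≫ Sigma.ι (fun _ : Fin b => Tw k 2 (-0)) j ≫ φ₀)
    have : Sigma.desc (fun j => eqToHom e0.symm ≫ w j) ≫ Sigma.desc s' = φ₀ := Sigma.hom_ext _ _ fun j => by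
      rw [Sigma.ι_desc_assoc, Category.assoc, hw, eqToHom_trans_assoc, eqToHom_refl, Category.id_comp]
    haveI : Epi (Sigma.desc (fun j => eqToHom e0.symm ≫ w j) ≫ Sigma.desc s') := by rw [this]; exact hφ₀
    exact epi_of_epi (Sigma.desc fun j => eqToHom e0.symm ≫ w j) _
  have hS' : (ShortComplex.mk (kernel.ι (Sigma.desc s')) (Sigma.desc s') (kernel.condition _)).ShortExact :=
    { exact := ShortComplex.exact_of_f_is_kernel _ (kernelIsKernel _) }
  have hK'c : Coh.IsCoh (kernel (Sigma.desc s')) :=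
    QC.isCoh_kernel (DetReg.isCoh_sigma _ (CohFinite.isCoh_twist 2 k _)) hGc.1 _
  have hK'hom : ∀ g : Tw k 2 0 ⟶ kernel (Sigma.desc s'), g = 0 := fun g => by
    rw [← cancel_mono (kernel.ι (Sigma.desc s')), zero_comp]
    exact hs'inj _ (by rw [Category.assoc, kernel.condition, comp_zero])
  have hK'1 : Van (kernel (Sigma.desc s')) 1 (-1) :=
    van_left _ _ _ hS' (q := 0) g0m1 (van_sigma (n := 2) 0 (-1) 1 (by omega) (by omega))
  have hK'2 : Van (kernel (Sigma.desc s')) 2 (-2) :=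
    van_left _ _ _ hS' (q := 1) g1m2 (van_sigma (n := 2) 0 (-2) 2 (by omega) (by omega))
  have hK'zero : IsZero (kernel (Sigma.desc s')) := by
    obtain ⟨b, φ₀, hφ₀, -⟩ := LinRes.exists_of_reg _ hK'c 0 (fun q hq hq2 => by
      obtain rfl | rfl : q = 1 ∨ q = 2 := by omega
      · show Van (kernel (Sigma.desc s')) 1 _; simpa using hK'1
      · show Van (kernel (Sigma.desc s')) 2 _; simpa using hK'2)
    refine @IsZero.of_epi_eq_zero _ _ _ _ _ φ₀ hφ₀ (Sigma.hom_ext _ _ fun j => ?_)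
    rw [comp_zero, ← Category.id_comp (Sigma.ι (fun _ : Fin b => Tw k 2 (-0)) j ≫ φ₀),
      ← eqToHom_refl (Tw k 2 (-0)) rfl, ← eqToHom_trans (show Tw k 2 (-0) = Tw k 2 0 by simp) (show Tw k 2 0 = Tw k 2 (-0) by simp),
      Category.assoc, hK'hom (_ ≫ Sigma.ι (fun _ : Fin b => Tw k 2 (-0)) j ≫ φ₀), comp_zero]
  haveI : Mono (Sigma.desc s') := Preadditive.mono_of_kernel_zero (hK'zero.eq_of_src _ _)
  haveI : IsIso (Sigma.desc s') := isIso_of_mono_of_epi _
  obtain ⟨η⟩ := exists_eta (k := k) (n := 2) (-2)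
  obtain ⟨i⟩ := RegCx.twist_twist (k := k) (n := 2) 0 (-2) (-2) (by norm_num)
  let θ : CohB1.tensorMod (Tw k 2 2) (Tw k 2 (-2)) ≅ OO :=
    eqToIso (by simp) ≪≫ η
  let eK : kernel φ ≅ ∐ fun _ : Fin N => Twist.twistProjSpace 2 k (-2) :=
    (SerrePn.untw θ (kernel φ)).symm ≪≫ PicGrp.tensorModIso (asIso (Sigma.desc s')).symm (Iso.refl _) ≪≫
      sigmaTensor N (Tw k 2 0) (Tw k 2 (-2)) ≪≫ Sigma.mapIso (fun _ => i)
  exact ⟨N, Module.finrank k C, Module.finrank k (OO ⟶ F), ShortComplex.mk (kernel.ι φ) φ (kernel.condition φ), hS,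
    ⟨eK⟩, ⟨biprod.mapIso (Iso.refl _) (Sigma.mapIso fun _ => jd)⟩, ⟨Iso.refl _⟩⟩

/-- A resolution gives the vanishing conditions. -/
theorem vanish_of_hasRes (F : (CohB1.ProjSpace 2 k).Modules) (h : HasRes F) :
    Van F 0 (-1) ∧ Van F 2 (-1) ∧ Van F 1 0 ∧ Van F 2 0 ∧ Van F 1 1 ∧ Van F 2 1 ∧ Function.Injective (mul F) := by
  classical
  obtain ⟨α₁, α₂, α₃, S, hS, ⟨e₁⟩, ⟨e₂⟩, ⟨e₃⟩⟩ := h
  obtain ⟨j₀⟩ := GrT.nonempty_twist_zero_iso (𝒜 := CohB1.polyGrading 2 k)
  let jd : Tw k 2 0 ≅ OO := j₀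
  let e₂' : S.X₂ ≅ (∐ fun _ : Fin α₂ => Tw k 2 (-1)) ⊞ (∐ fun _ : Fin α₃ => Tw k 2 0) :=
    e₂ ≪≫ biprod.mapIso (Iso.refl _) (Sigma.mapIso fun _ => jd.symm)
  have v2 : ∀ (q : ℕ) (c : ℤ), ¬ (q = 0 ∧ 0 ≤ c) → ¬ (q = 2 ∧ c ≤ -2) → Van S.X₂ q c := fun q c a b =>
    van_iso e₂'.symm
      (van_biprod (van_sigma (n := 2) (-1) c q (by omega) (by omega)) (van_sigma (n := 2) 0 c q (by omega) (by omega)))
  have v1 : ∀ (q : ℕ) (c : ℤ), ¬ (q = 0 ∧ 2 ≤ c) → ¬ (q = 2 ∧ c ≤ -1) → Van S.X₁ q c := fun q c a b =>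
    van_iso e₁.symm (van_sigma (n := 2) (-2) c q (by omega) (by omega))
  have v3 : ∀ (q : ℕ) (c : ℤ), Van S.X₂ q c → Van S.X₁ (q + 1) c → Van F q c := fun q c a b =>
    van_iso e₃ (van_right S.f S.g S.zero hS a b)
  refine ⟨v3 0 _ (v2 0 _ (by omega) (by omega)) (v1 1 _ (by omega) (by omega)),
    v3 2 _ (v2 2 _ (by omega) (by omega)) (v1 3 _ (by omega) (by omega)),
    v3 1 _ (v2 1 _ (by omega) (by omega)) (v1 2 _ (by omega) (by omega)),
    v3 2 _ (v2 2 _ (by omega) (by omega)) (v1 3 _ (by omega) (by omega)),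
    v3 1 _ (v2 1 _ (by omega) (by omega)) (v1 2 _ (by omega) (by omega)),
    v3 2 _ (v2 2 _ (by omega) (by omega)) (v1 3 _ (by omega) (by omega)), ?_⟩
  let φ : S.X₂ ⟶ F := S.g ≫ e₃.hom
  -- morphisms out of `O` lift
  have hlift : ∀ f : OO ⟶ F, ∃ w : OO ⟶ S.X₂, w ≫ φ = f := fun f => by
    have hs := CohQC.seq_shortExact hS
    have h1 : Subsingleton (Coh.HH (CohB1.ProjSpace 2 k) S.X₁ 1) :=
      (van_zero_iff S.X₁ 1).1 (v1 1 0 (by omega) (by omega))
    obtain ⟨e, he⟩ := CohFinite.exists_zero_equiv k S.X₃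
    let x := (Sheaf.H.equiv₀ (Coh.toAb S.X₃) (isTerminalTop : IsTerminal (⊤ : (CohB1.ProjSpace 2 k).Opens))).symm
      (TMul.val (f ≫ e₃.inv) ⊤)
    obtain ⟨y, hy⟩ := (CohFinite.δH_eq_zero_iff hs 0 x).1 (h1.elim _ _)
    let wt := Sheaf.H.equiv₀ (Coh.toAb S.X₂) (isTerminalTop : IsTerminal (⊤ : (CohB1.ProjSpace 2 k).Opens)) y
    have hw : S.g.app ⊤ wt = TMul.val (f ≫ e₃.inv) ⊤ := by
      refine (SerrePn.h0_natural (A := k) S.g y).symm.trans ?_
      exact (congrArg _ hy).trans (AddEquiv.apply_symm_apply _ _)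
    refine ⟨TMul.homOf wt, TMul.hom_ext_val ?_⟩
    rw [TMul.val_comp, TMul.val_homOf, QC.res_self]
    show (S.g ≫ e₃.hom).app ⊤ wt = _
    rw [Scheme.Modules.Hom.comp_app, ConcreteCategory.comp_apply, hw, ← TMul.val_comp, Category.assoc,
      e₃.inv_hom_id, Category.comp_id]
  let r : Fin α₃ → (OO ⟶ F) := fun l => Sigma.ι (fun _ : Fin α₃ => OO) l ≫ biprod.inr ≫ e₂.inv ≫ φ
  let Ψ : (Fin α₃ → (Tw k 2 (-1) ⟶ OO)) →ₗ[k] (Tw k 2 (-1) ⟶ OO) ⊗[k] (OO ⟶ F) :=
    ∑ l, ((TensorProduct.mk k (Tw k 2 (-1) ⟶ OO) (OO ⟶ F)).flip (r l)) ∘ₗ LinearMap.proj l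
  have hsurj : Function.Surjective Ψ := by
    intro v
    induction v using TensorProduct.induction_on with
    | zero => exact ⟨0, map_zero _⟩
    | add x y hx hy =>
      obtain ⟨a, rfl⟩ := hx
      obtain ⟨b, rfl⟩ := hy
      exact ⟨a + b, map_add _ _ _⟩
    | tmul ψ f =>
      obtain ⟨w, rfl⟩ := hlift f
      choose c hc using fun l => exists_scalar (k := k) (by norm_num : 1 ≤ 2) 0
        ((jd.hom ≫ w ≫ e₂'.hom ≫ biprod.snd) ≫ pr (Tw k 2 0) l)
      have h1 : w ≫ e₂.hom ≫ biprod.fst = 0 := by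
        rw [sum_comp_pr (w ≫ e₂.hom ≫ biprod.fst)]
        exact Finset.sum_eq_zero fun i _ => by
          have := hom_tw_eq_zero 0 (-1) (by norm_num) (jd.hom ≫ (w ≫ e₂.hom ≫ biprod.fst) ≫ pr _ i) (by norm_num)
          rw [← Iso.inv_hom_id_assoc jd ((w ≫ e₂.hom ≫ biprod.fst) ≫ pr _ i), this, comp_zero, zero_comp]
      have hsnd : w ≫ e₂.hom ≫ biprod.snd = ∑ l, c l • Sigma.ι (fun _ : Fin α₃ => OO) l := by
        have h2 : jd.hom ≫ w ≫ e₂'.hom ≫ biprod.snd = ∑ l, c l • Sigma.ι (fun _ : Fin α₃ => Tw k 2 0) l := by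
          rw [sum_comp_pr (jd.hom ≫ w ≫ e₂'.hom ≫ biprod.snd)]
          exact Finset.sum_congr rfl fun l _ => by rw [hc l, Linear.smul_comp, Category.id_comp]
        have h3 : e₂'.hom ≫ biprod.snd = (e₂.hom ≫ biprod.snd) ≫ (Sigma.mapIso fun _ : Fin α₃ => jd.symm).hom := by
          simp [e₂']
        rw [h3] at h2
        refine (cancel_mono (Sigma.mapIso fun _ : Fin α₃ => jd.symm).hom).1 ((cancel_epi jd.hom).1 ?_)
        rw [Category.assoc, h2, Preadditive.sum_comp, Preadditive.comp_sum]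
        refine Finset.sum_congr rfl fun l _ => ?_
        rw [Linear.smul_comp, Linear.comp_smul]
        simp
      refine ⟨fun l => c l • ψ, ?_⟩
      have hf : w ≫ φ = ∑ l, c l • r l := by
        have : w = (w ≫ e₂.hom ≫ biprod.snd) ≫ biprod.inr ≫ e₂.inv := by
          conv_lhs => rw [← Category.comp_id w, ← e₂.hom_inv_id, ← Category.assoc, biprod_eq (w ≫ e₂.hom),
            Category.assoc w e₂.hom biprod.fst, h1, zero_comp, zero_add]
          simp only [Category.assoc]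
        rw [this, hsnd]
        simp only [Preadditive.sum_comp, Linear.smul_comp, Category.assoc, r]
      rw [hf, TensorProduct.tmul_sum]
      simp only [Ψ, LinearMap.sum_apply, LinearMap.comp_apply, LinearMap.proj_apply, LinearMap.flip_apply,
        TensorProduct.mk_apply, TensorProduct.tmul_smul, TensorProduct.smul_tmul']
  refine (injective_iff_map_eq_zero _).2 fun v hv => ?_
  obtain ⟨ψ, rfl⟩ := hsurj v
  let g : Tw k 2 (-1) ⟶ S.X₂ := (∑ l, ψ l ≫ Sigma.ι (fun _ : Fin α₃ => OO) l) ≫ biprod.inr ≫ e₂.inv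
  have hg : g ≫ S.g = 0 := by
    refine (cancel_mono e₃.hom).1 ?_
    rw [zero_comp, ← hv]
    simp only [g, Ψ, φ, r, LinearMap.sum_apply, LinearMap.comp_apply, LinearMap.proj_apply, LinearMap.flip_apply,
      TensorProduct.mk_apply, map_sum, mul_tmul, Preadditive.sum_comp, Category.assoc]
  haveI := hS.mono_f
  let u := hS.exact.lift g hg
  have hu : u = 0 := hom_eq_zero_of_van (-1) (by simpa using v1 0 1 (by omega) (by omega)) u
  have hg0 : g = 0 := by rw [← hS.exact.lift_f g hg]; exact (congrArg (· ≫ S.f) hu).trans zero_comp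
  have hψ : ∀ l, ψ l = 0 := fun l => by
    have := congrArg (fun q => q ≫ e₂.hom ≫ biprod.snd ≫ pr OO l) hg0
    simp only [g, zero_comp, Category.assoc, Iso.inv_hom_id_assoc, biprod.inr_snd_assoc, Preadditive.sum_comp] at this
    rw [Finset.sum_eq_single l] at this
    · rw [pr, colimit.ι_desc] at this
      simpa using this
    · intro b _ hb
      rw [pr, colimit.ι_desc]
      simp [hb]
    · exact fun h => absurd (Finset.mem_univ _) h
  rw [show ψ = 0 from funext hψ, map_zero]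

/-- Gaeta's criterion. -/
theorem main (F : (CohB1.ProjSpace 2 k).Modules) (hF : Coh.IsCoh F) :
    HasRes F ↔
      (Van F 0 (-1) ∧ Van F 2 (-1) ∧ Subsingleton (Coh.HH P2 F 1) ∧ Subsingleton (Coh.HH P2 F 2) ∧
        Van F 1 1 ∧ Van F 2 1 ∧ Function.Injective (mul F)) := by
  rw [← van_zero_iff, ← van_zero_iff]
  exact ⟨vanish_of_hasRes F, fun ⟨a, b, c, d, e, f, g⟩ => hasRes_of_vanish F hF a b c d e f g⟩

end Groth.Agent.GaetaRes
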